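/- Janko-four type groups: concrete data and the interface structures of the tower
(see blueprints/J4.md).  `Hyp`: core hypothesis; `HSet`: coordinates on the extraspecial group;
`JSet0`, `JSet`: the subgroup `2^11 : M24` and the symmetric generator `t`. -/
import Cfsg.Agent.H72.Stabs
import Cfsg.Agent.H72.Cls22
import Cfsg.Agent.H78.Large
import Cfsg.Agent.H78.Form
import Cfsg.Prelude.Def_JankoFourType

set_option autoImplicit false

open Cfsg H72
open scoped Pointwise symmDiff

namespace H50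

/-- the duad stabiliser `M22 : 2` in `M24` (duad `{0, 23}`). -/
noncomputable abbrev Duo : Subgroup P24 := M24 ⊓ MulAction.stabilizer P24 (ofMask duo0)
/-- the sextet stabiliser (sextet of `{0, 1, 2, 23}`). -/
noncomputable abbrev Sex : Subgroup P24 := M24 ⊓ MulAction.stabilizer P24 (decX tet0)
/-- the trio stabiliser (the trio is refined by the sextet above). -/
noncomputable abbrev Tri : Subgroup P24 := M24 ⊓ MulAction.stabilizer P24 (decT tri0)

/-! ### data on the `M22 : 2` side.  `D = ⟨d1, d1b, d2, d2a⟩` fixes the octad `oct0` pointwise,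
`D'` (containing `g1`) fixes the octad `oct2` pointwise, `L = ⟨a, b, x, s⟩ = S6` stabilises both. -/
def oct2 : ℕ := 8499969
def pa : ℕ := nat_lit 960989032109975946747421490072294496
def pb : ℕ := nat_lit 963346899445373020599264805269837344
def pd1 : ℕ := nat_lit 963721886883755259286232606933354528
def pd2 : ℕ := nat_lit 961365507626256404119956257276790816
def pg1 : ℕ := nat_lit 962711646723258475431159553394581024
def ps : ℕ := nat_lit 5989235823820259689967313196876887
def px : ℕ := nat_lit 965307795761740754361936628421170208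
def pd1b : ℕ := nat_lit 976448692869377735270425038196672544
def pd2a : ℕ := nat_lit 966182099583441531322624363496310816

/-! ### matrices on `E / ⟨z⟩ = F₂¹²` (bits `2i, 2i+1`: `e_i, ρ e_i`; bits `6+2i, 7+2i`: `f_i, ρ f_i`);
a matrix is the list of the images of the basis vectors and is applied by `xorSel`. -/
def mR : List ℕ := [2, 3, 8, 12, 32, 48, 128, 192, 512, 768, 2048, 3072]
def mA : List ℕ := [1, 2, 8, 12, 48, 16, 64, 128, 512, 768, 3072, 1024]
def mB : List ℕ := [4, 8, 16, 32, 1, 2, 256, 512, 1024, 2048, 64, 128]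
def mD1 : List ℕ := [1, 2, 4, 8, 16, 32, 64, 128, 260, 520, 1040, 2080]
def mD2 : List ℕ := [1, 2, 4, 8, 16, 32, 84, 168, 273, 546, 1029, 2058]
def mG1 : List ℕ := [3841, 1282, 1156, 2248, 400, 736, 64, 128, 256, 512, 1024, 2048]
def mS : List ℕ := [1, 3, 4, 12, 16, 48, 64, 192, 256, 768, 1024, 3072]
def mX : List ℕ := [1, 2, 57, 30, 45, 54, 1344, 2688, 2816, 3328, 3584, 1792]
def mD1b : List ℕ := [1, 2, 4, 8, 16, 32, 65, 130, 256, 512, 1040, 2080]
def mD2a : List ℕ := [1, 2, 4, 8, 16, 32, 120, 156, 291, 561, 1038, 2055]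
def gamL : List ℕ := [64, 192, 256, 768, 1024, 3072, 1, 3, 4, 12, 16, 48]

/-- parity of a 12-bit mask. -/
def par12 (m : ℕ) : ℕ := xorSel [1, 1, 1, 1, 1, 1, 1, 1, 1, 1, 1, 1] m
/-- the bilinear cocycle of the canonical lifts: `gam m n = b(m, ρ n)`. -/
def gam (m n : ℕ) : ℕ := par12 (Nat.land m (xorSel gamL n))

/-! ### data on the `M24 = N(V) / V` side -/
def qa : ℕ := nat_lit 4195431155511202045986498836519970
def qb : ℕ := nat_lit 519336216905043289550641803458718994
def qs : ℕ := nat_lit 19051021382979914925445836698683447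
def qr : ℕ := nat_lit 88579121007385934716849304472322103
def qx : ℕ := nat_lit 591298695146988358113678685722657955
def qfL : List ℕ := [nat_lit 961438956620049001677386430328277024,
  nat_lit 973122887587861701392823884636653600, nat_lit 976934804572108675034832543981668384,
  nat_lit 960831283963798152912375878980765728, nat_lit 17739009920735306807106826245014615,
  nat_lit 104711250050885010830356261031599105]
/-- the linear map from subsets of the 24 points to the 11 coordinates of `V`. -/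
def lamL : List ℕ := [16, 1072, 32, 1990, 1751, 1008, 124, 120, 1200, 1509, 1498, 177, 179, 752,
  2027, 1487, 1737, 2013, 178, 1136, 496, 116, 1774, 0]
/-- even subsets mapping to the basis vectors of `V`. -/
def preL : List ℕ := [266240, 6144, 192, 2097216, 8388609, 8388612, 524290, 258, 8224, 1048608,
  8388615]

variable {G : Type*} [Group G]

/-- product of the members of the list selected by the bits of `c`. -/
def prodSel : List G → ℕ → G
  | [], _ => 1
  | b :: l, c => cond (tb c 0) b 1 * prodSel l (Nat.shiftRight c 1)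

/-- Core hypothesis: `H = C(z)` has the large extraspecial subgroup `E` of order `2^13`, `π` maps
`H` onto the duad stabiliser with kernel `E ⟨ρ⟩`, `ρ` has order three and acts without fixed points
on `E / ⟨z⟩`, and the Sylow 3-subgroups of `H / E` are not abelian. -/
structure Hyp (z ρ : G) (E : Subgroup G) (π : G → P24) : Prop where
  lx : H78.LX E z
  card : Nat.card E = 2 ^ 13
  π_mul : ∀ x y, x * z = z * x → y * z = z * y → π (x * y) = π x * π y
  π_mem : ∀ x, x * z = z * x → π x ∈ Duo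
  π_surj : ∀ g ∈ Duo, ∃ x, x * z = z * x ∧ π x = g
  π_ker : ∀ x, x * z = z * x → (π x = 1 ↔ x ∈ E ⊔ Subgroup.zpowers ρ)
  ρz : ρ * z = z * ρ
  ρ3 : orderOf ρ = 3
  fpf : ∀ e ∈ E, ρ * e = e * ρ → e = 1 ∨ e = z
  nonab : ∀ a b, a * z = z * a → b * z = z * b → π a = toPerm pa → π b = toPerm pb →
    a * b * a⁻¹ * b⁻¹ ∉ E

/-- Coordinates on `E`: `σ m` (`m < 4096`) is the canonical lift of the vector `m`, and the chosen
generators of `N_H(ρ)` act by the matrices above. -/
structure HSet (G : Type*) [Group G] where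
  (z ρ a b d1 d2 g1 s : G)
  E : Subgroup G
  π : G → P24
  σ : ℕ → G
  hyp : Hyp z ρ E π
  az : a * z = z * a
  bz : b * z = z * b
  d1z : d1 * z = z * d1
  d2z : d2 * z = z * d2
  g1z : g1 * z = z * g1
  sz : s * z = z * s
  aρ : a * ρ = ρ * a
  bρ : b * ρ = ρ * b
  d1ρ : d1 * ρ = ρ * d1
  d2ρ : d2 * ρ = ρ * d2
  g1ρ : g1 * ρ = ρ * g1
  sρ : s * ρ * s⁻¹ = ρ⁻¹
  πa : π a = toPerm pa
  πb : π b = toPerm pb
  πd1 : π d1 = toPerm pd1
  πd2 : π d2 = toPerm pd2
  πg1 : π g1 = toPerm pg1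
  πs : π s = toPerm ps
  a3 : a ^ 3 = 1
  b3 : b ^ 3 = 1
  ab : a * b = b * a * ρ
  d1sq : d1 * d1 = 1
  d2sq : d2 * d2 = 1
  g1sq : g1 * g1 = 1
  d1can : d1 * (b * d1 * b⁻¹) * (b * (b * d1 * b⁻¹) * b⁻¹) = 1
  d2can : d2 * (a * d2 * a⁻¹) * (a * (a * d2 * a⁻¹) * a⁻¹) = 1
  σ_mem : ∀ m, σ m ∈ E
  σ_surj : ∀ e ∈ E, ∃ m < 4096, e = σ m ∨ e = σ m * z
  σ_inj : ∀ m < 4096, σ m = 1 ∨ σ m = z → m = 0
  σ_mul : ∀ m < 4096, ∀ n < 4096, σ m * σ n = σ (Nat.xor m n) * z ^ gam m n
  σρ : ∀ m < 4096, ρ * σ m * ρ⁻¹ = σ (xorSel mR m)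
  σa : ∀ m < 4096, a * σ m * a⁻¹ = σ (xorSel mA m)
  σb : ∀ m < 4096, b * σ m * b⁻¹ = σ (xorSel mB m)
  σd1 : ∀ m < 4096, d1 * σ m * d1⁻¹ = σ (xorSel mD1 m)
  σd2 : ∀ m < 4096, d2 * σ m * d2⁻¹ = σ (xorSel mD2 m)
  σg1 : ∀ m < 4096, g1 * σ m * g1⁻¹ = σ (xorSel mG1 m)
  σs : ∀ m < 4096, s * σ m * s⁻¹ = σ (xorSel mS m) * z ^ gam m m

namespace HSet

variable (S : HSet G)

/-- the involution `x = (d1 d2 g1)²` of `L`; it acts by `mX` and maps to `px`. -/
def x : G := (S.d1 * S.d2 * S.g1) * (S.d1 * S.d2 * S.g1)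

/-- the basis of `V`: six vectors of `U`, four lifts of a basis of `D`, and `z`. -/
def vB : List G := [S.σ 1, S.σ 2, S.σ 4, S.σ 8, S.σ 16, S.σ 32, S.d1, S.b * S.d1 * S.b⁻¹, S.d2,
  S.a * S.d2 * S.a⁻¹, S.z]

/-- coordinates on `V` (11 bits). -/
def v0 (m : ℕ) : G := prodSel S.vB m

/-- the elementary abelian subgroup `V` of order `2^11`. -/
def V : Subgroup G := Subgroup.closure {g | g ∈ S.vB}

/-- the element of `V` attached to a set of points (an odd set `s` is read as `s ∆ {23}`). -/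
noncomputable def v (s : Finset GolayPt) : G := S.v0 (xorSel lamL (toMask s))

/-- the representative `v {0, 23}` of the second class of involutions. -/
noncomputable def w : G := S.v (ofMask duo0)

end HSet

/-- `N_G(V) = V : ι(M24)` with `V` the even part of the Golay cocode. -/
structure JSet0 (G : Type*) [Group G] extends HSet G where
  ι : P24 → G
  ι_mul : ∀ g ∈ M24, ∀ h ∈ M24, ι (g * h) = ι g * ι h
  ι_conj : ∀ g ∈ M24, ∀ c : Finset GolayPt, Even c.card →
    ι g * toHSet.v c * (ι g)⁻¹ = toHSet.v (g • c)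
  norm : ∀ y, y ∈ Subgroup.normalizer (toHSet.V : Set G) ↔ ∃ c, ∃ g ∈ M24, y = toHSet.v c * ι g
  ιr : ι (toPerm qr) = ρ
  ιa : ι (toPerm qa) = a
  ιb : ι (toPerm qb) = b
  ιs : ι (toPerm qs) = s ∨ ι (toPerm qs) = s * z
  ιx : ι (toPerm qx) = toHSet.x ∨ ι (toPerm qx) = toHSet.x * z
  ιf : ∀ j < 6, ι (toPerm (qfL.getD j 0)) = σ (2 ^ (6 + j))
  uniq : ∀ B : Subgroup G, IsPGroup 2 ↥(toHSet.V ⊔ B) → (∀ y ∈ B, y * y = 1) →
    2 ^ 11 ≤ Nat.card B → B = toHSet.V
  nconj : ¬ IsConj z toHSet.w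

/-- the full setting: the symmetric generator `t`, the centraliser of `w`, the involutions. -/
structure JSet (G : Type*) [Group G] extends JSet0 G where
  t : G
  t_eq : t = g1 ∨ t = g1 * z
  t_conj : IsConj z t
  t_tri : ∀ g ∈ Tri, ι g * t = t * ι g
  cent_w : ∀ y, y * toHSet.w = toHSet.w * y → y ∈ Subgroup.normalizer (toHSet.V : Set G)
  invol : ∀ y, y * y = 1 → y ≠ 1 → IsConj z y ∨ IsConj toHSet.w y

end H50
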