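/- Step B, continued: coordinates attached to a frame and the matrices of the generators. -/
import Cfsg.Agent.H50.J4Frame
import Cfsg.Agent.H50.J4V
import Cfsg.Agent.Rz.Nat_shiftRight_eq_def

set_option autoImplicit false

open Cfsg H72 H78

namespace H50

variable {X : Type*} [CommGroup X]

/-- coordinates on `X` with the Gram matrix `gam`. -/
structure Crd (β : X → X → ZMod 2) (W : MulAut X) (c : ℕ → X) : Prop where
  xor : ∀ m n, c (Nat.xor m n) = c m * c n
  inj : ∀ m < 4096, c m = 1 → m = 0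
  surj : ∀ x, ∃ m < 4096, x = c m
  gram : ∀ m < 4096, ∀ n < 4096, β (c m) (W (c n)) = gam m n

/-- `T` has the matrix `M` in the coordinates `c`. -/
structure Mt (c : ℕ → X) (T : MulAut X) (M : List ℕ) : Prop where
  bd : bnd 12 M = true
  act : ∀ m < 4096, T (c m) = c (xorSel M m)

theorem Mt.mul {c : ℕ → X} {T U : MulAut X} {M N : List ℕ} (h : Mt c T M) (k : Mt c U N) :
    Mt c (T * U) (mmul M N) :=
  ⟨bnd_mmul h.bd N, fun m hm => by
    rw [MulAut.mul_apply, k.act m hm, h.act _ (xorSel_lt' k.bd m), xorSel_mmul]⟩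

theorem mt_one (c : ℕ → X) : Mt c 1 (idM 12) :=
  ⟨bnd_idM, fun m hm => by rw [xorSel_idM' (n := 12) hm]; rfl⟩

theorem Mt.pow {c : ℕ → X} {W : MulAut X} (h : Mt c W mR) (i : ℕ) : Mt c (W ^ i) (mRp i) := by
  induction i with
  | zero => rw [pow_zero]; exact mt_one c
  | succ i ih => rw [pow_succ']; exact h.mul ih

/-- equality of matrices on the basis vectors. -/
def eqM (M N : List ℕ) : Bool := (idM 12).all fun m => Nat.beq (xorSel M m) (xorSel N m)

/-- the matrix preserves `gam` on the basis vectors. -/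
def isoM (M : List ℕ) : Bool :=
  (idM 12).all fun m => (idM 12).all fun n => Nat.beq (gam (xorSel M m) (xorSel M n)) (gam m n)

theorem lt_of_mem_idM : ∀ m ∈ idM 12, m < 4096 := by decide

theorem prodSel_map_of_xor {G : Type*} [Group G] {c : ℕ → G}
    (hx : ∀ m n, c (Nat.xor m n) = c m * c n) (M : List ℕ) (m : ℕ) :
    prodSel (M.map c) m = c (xorSel M m) := by
  have h0 : c 0 = 1 := by
    have := hx 0 0
    rw [nxor_self] at this
    exact left_eq_mul.1 this
  induction M generalizing m with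
  | nil => exact h0.symm
  | cons a M ih =>
    rw [List.map_cons, prodSel, xorSel, hx, ih]
    cases tb m 0
    · simp [h0]
    · rfl

namespace Crd

variable {β : X → X → ZMod 2} {W : MulAut X} {c : ℕ → X} (h : Crd β W c)
include h

theorem zero : c 0 = 1 := by
  have := h.xor 0 0
  rw [nxor_self] at this
  exact left_eq_mul.1 this

theorem injective {m n : ℕ} (hm : m < 4096) (hn : n < 4096) (e : c m = c n) : m = n :=
  nxor_eq_zero (h.inj _ (xor_lt12 hm hn) (by rw [h.xor, e, ← h.xor, nxor_self, h.zero]))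

theorem eqM_of {T : MulAut X} {M N : List ℕ} (h1 : Mt c T M) (h2 : Mt c T N) : eqM M N = true := by
  refine List.all_eq_true.2 fun m hm => ?_
  have := lt_of_mem_idM m hm
  rw [Nat.beq_eq]
  exact h.injective (xorSel_lt' h1.bd m) (xorSel_lt' h2.bd m)
    ((h1.act m this).symm.trans (h2.act m this))

theorem gam_eq {T : MulAut X} {M : List ℕ} (h1 : Mt c T M) (hi : Iso β T) (hW : T * W = W * T)
    {m n : ℕ} (hm : m < 4096) (hn : n < 4096) : gam (xorSel M m) (xorSel M n) = gam m n := by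
  have e := h.gram _ (xorSel_lt' h1.bd m) _ (xorSel_lt' h1.bd n)
  rw [← h1.act m hm, ← h1.act n hn, ← MulAut.mul_apply, ← hW, MulAut.mul_apply, hi,
    h.gram m hm n hn] at e
  have l1 := gam_lt m n
  have l2 := gam_lt (xorSel M m) (xorSel M n)
  generalize gam (xorSel M m) (xorSel M n) = p at *
  generalize gam m n = q at *
  interval_cases p <;> interval_cases q <;> simp_all

theorem isoM_of {T : MulAut X} {M : List ℕ} (h1 : Mt c T M) (hi : Iso β T) (hW : T * W = W * T) :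
    isoM M = true :=
  List.all_eq_true.2 fun m hm => List.all_eq_true.2 fun n hn => by
    rw [Nat.beq_eq]; exact h.gam_eq h1 hi hW (lt_of_mem_idM m hm) (lt_of_mem_idM n hn)

theorem eq_one {T : MulAut X} (h1 : Mt c T (idM 12)) : T = 1 := by
  ext x
  obtain ⟨m, hm, rfl⟩ := h.surj x
  rw [h1.act m hm, xorSel_idM' (n := 12) hm]; rfl

end Crd

theorem cube_rel {G : Type*} [Group G] {T D D' : G} (h1 : T * D = D' * T) (h2 : T * D' = D * D' * T)
    (h3 : T * T * T = 1) (d : D * D = 1) (d' : D' * D' = 1) (c : D * D' = D' * D) :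
    D * T * (D * T) * (D * T) = 1 := by
  calc _ = D * (T * D) * (T * D) * T := by group
    _ = D * D' * (T * D') * T * T := by rw [h1]; group
    _ = D * (D' * D) * D' * (T * T * T) := by rw [h2]; group
    _ = D * D * (D' * D') := by rw [h3, ← c]; group
    _ = 1 := by rw [d, d', mul_one]

/-- six basis vectors attached to a vector. -/
def LD.bas (L : LD X) (e : X) : List X :=
  [e, L.W e, L.B e, L.W (L.B e), L.B (L.B e), L.W (L.B (L.B e))]

/-- the coordinates attached to a frame. -/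
def LD.crd (L : LD X) (e f : X) (m : ℕ) : X := prodSel (L.bas e ++ L.bas f) m

namespace Fr

variable {β : X → X → ZMod 2} {L : LD X} {e f : X} (h : Fr β L e f)
include h

theorem crd_xor (m n : ℕ) : L.crd e f (Nat.xor m n) = L.crd e f m * L.crd e f n :=
  prodSel_xor (fun b _ => h.ls.form.sq b) (fun b _ c _ => mul_comm b c) m n

theorem mt_of {T : MulAut X} {M : List ℕ} (hb : bnd 12 M = true)
    (H : (L.bas e ++ L.bas f).map T = M.map (L.crd e f)) : Mt (L.crd e f) T M :=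
  ⟨hb, fun m _ => by
    rw [← prodSel_map_of_xor h.crd_xor, ← H, LD.crd,
      map_prodSel (K := ⊤) (fun x _ y _ => map_mul T x y) (fun _ _ => Subgroup.mem_top _)]⟩

theorem mtW : Mt (L.crd e f) L.W mR := h.mt_of bnd_mR (by
  simp [LD.crd, LD.bas, mR, prodSel, tb_eq, Nat.testBit, Nat.shiftRight, h.ls.WW])

theorem mtA : Mt (L.crd e f) L.A mA := h.mt_of (by decide) (by
  simp [LD.crd, LD.bas, mA, prodSel, tb_eq, Nat.testBit, Nat.shiftRight, h.ls.aw, h.ls.ab, h.ls.bw,
    h.ls.WWW, h.Ae, h.Af, ← h.ls.WW])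

theorem mtB : Mt (L.crd e f) L.B mB := h.mt_of (by decide) (by
  simp [LD.crd, LD.bas, mB, prodSel, tb_eq, Nat.testBit, Nat.shiftRight, h.ls.bw, h.ls.bbb])

theorem radD_bas : ∀ x ∈ L.bas e, Rad β L.lD x := by
  have := h.eR
  simp only [LD.bas, List.mem_cons, List.not_mem_nil, or_false, forall_eq_or_imp, forall_eq]
  exact ⟨this, h.ls.radD_W this, h.ls.radD_B this, h.ls.radD_W (h.ls.radD_B this),
    h.ls.radD_B (h.ls.radD_B this), h.ls.radD_W (h.ls.radD_B (h.ls.radD_B this))⟩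

theorem radG_bas : ∀ x ∈ L.bas f, Rad β L.lG x := by
  have := h.fR
  simp only [LD.bas, List.mem_cons, List.not_mem_nil, or_false, forall_eq_or_imp, forall_eq]
  exact ⟨this, h.ls.radG_W this, h.ls.radG_B this, h.ls.radG_W (h.ls.radG_B this),
    h.ls.radG_B (h.ls.radG_B this), h.ls.radG_W (h.ls.radG_B (h.ls.radG_B this))⟩

theorem crd_inj {m : ℕ} (hm : m < 4096) (h1 : L.crd e f m = 1) : m = 0 := by
  have key : ∀ m < 4096, (m < 64 ∨ m % 64 = 0) → L.crd e f m = 1 → m = 0 := by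
    intro m hm h2 h1
    have hB : ∀ m < 4096, L.crd e f m = 1 → L.crd e f (xorSel mB m) = 1 := fun m hm h1 => by
      rw [← h.mtB.act m hm, h1, map_one]
    have hP : ∀ m < 4096, L.crd e f m = 1 →
        L.crd e f (Nat.xor m (Nat.xor (xorSel mA m) (xorSel mA (xorSel mA m)))) = 1 := by
      intro m hm h1
      rw [h.crd_xor, h.crd_xor, ← h.mtA.act _ (xorSel_lt' h.mtA.bd m), ← h.mtA.act m hm, h1]
      simp
    have hE : ∀ m, m ∈ [1, 2, 3, 64, 128, 192] → L.crd e f m ≠ 1 := by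
      have e1 := h.e1
      have f1 := h.f1
      simp [LD.crd, LD.bas, prodSel, tb_eq, Nat.testBit, Nat.shiftRight, ← h.ls.WW, e1, f1]
    have b1 := xorSel_lt' h.mtB.bd m
    have b2 := xorSel_lt' h.mtB.bd (xorSel mB m)
    have k := all_lt (n := 4096) (f := fun m => !(Nat.blt m 64 || Nat.beq (m % 64) 0) ||
      Nat.beq m 0 || [m, xorSel mB m, xorSel mB (xorSel mB m)].any fun n =>
        memL (Nat.xor n (Nat.xor (xorSel mA n) (xorSel mA (xorSel mA n)))) [1, 2, 3, 64, 128, 192])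
      (by decide +kernel) hm
    have h2' : (Nat.blt m 64 || Nat.beq (m % 64) 0) = true := by
      simpa [Nat.blt_eq, Nat.beq_eq] using h2
    simp only [h2', Bool.not_true, Bool.false_or, Bool.or_eq_true, Nat.beq_eq, List.any_cons,
      List.any_nil, Bool.or_false, memL_iff] at k
    rcases k with k | k | k | k
    · exact k
    · exact absurd (hP _ hm h1) (hE _ k)
    · exact absurd (hP _ b1 (hB _ hm h1)) (hE _ k)
    · exact absurd (hP _ b2 (hB _ b1 (hB _ hm h1))) (hE _ k)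
  have rad : ∀ (l : List (MulAut X)) (bs : List X), (∀ x ∈ bs, Rad β l x) → ∀ n, ∀ D ∈ l,
      D (prodSel bs n) = prodSel bs n := fun l bs hb n D hD =>
    prodSel_mem (K := (D : X →* X).eqLocus (MonoidHom.id X)) (fun b h => (hb b h).1 D hD) n
  have l6 : 2 ^ (L.bas e).length = 64 := by simp [LD.bas]
  have h2 := h1
  rw [LD.crd, prodSel_append, l6] at h2
  have h3 := h.ls.form.eq_of_mul h2
  have h4 : prodSel (L.bas e) m = 1 := h.ls.meet _ (rad _ _ h.radD_bas m)
    (h3 ▸ rad _ _ h.radG_bas _)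
  have h5 : m % 64 = 0 := key _ (by omega) (Or.inl (Nat.mod_lt _ (by norm_num))) (by
    rw [LD.crd, prodSel_append, l6, Nat.div_eq_of_lt (Nat.mod_lt _ (by norm_num)), prodSel_zero,
      mul_one, ← l6, prodSel_mod, h4])
  exact key m hm (Or.inr h5) h1

theorem crd_surj (x : X) : ∃ m < 4096, x = L.crd e f m := by
  have := h.ls.form.finite
  have hb : Function.Bijective fun m : Fin 4096 => L.crd e f m := by
    refine (Nat.bijective_iff_injective_and_card _).2 ⟨fun m n e1 => Fin.ext ?_, ?_⟩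
    · refine nxor_eq_zero (h.crd_inj (xor_lt12 m.2 n.2) ?_)
      rw [h.crd_xor, show L.crd e f m = L.crd e f n from e1, h.ls.form.sq]
    · rw [h.ls.form.card, Nat.card_fin]
  obtain ⟨m, rfl⟩ := hb.2 x
  exact ⟨m, m.2, rfl⟩

end Fr

theorem LS.orth {β : X → X → ZMod 2} {L : LD X} (h : LS β L) {x y : X} (hx : L.A x = x)
    (hy : L.A y = y) : β x (L.B y) = 0 ∧ β x (L.B (L.B y)) = 0 := by
  have k : ∀ u, β x u = β x (L.W u) → β x (L.W u) = β x (L.W (L.W u)) → β x u = 0 := by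
    intro u h1 h2
    rw [h.WW, h.form.mul_r] at h2
    exact right_eq_add.1 h2
  have k1 : ∀ u, β x (L.A u) = β x u := fun u => by
    conv_lhs => rw [← hx]
    exact h.iA x u
  constructor
  · refine k _ ?_ ?_
    · rw [← k1, h.ab, hy]
    · rw [← k1, h.aw, h.ab, hy]
  · refine k _ ?_ ?_
    · rw [← k1 (L.W _)]; simp only [h.aw, h.ab, h.bw, hy, h.WWW]
    · rw [← k1 (L.W (L.W _))]; simp only [h.aw, h.ab, h.bw, hy, h.WWW]

/-- a normalised frame. -/
structure Fr2 (β : X → X → ZMod 2) (L : LD X) (e f : X) : Prop extends Fr β L e f where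
  ef : β e f = 0
  eWf : β e (L.W f) = 1

theorem Fr.exists_fr2 {β : X → X → ZMod 2} {L : LD X} {e f : X} (h : Fr β L e f) :
    ∃ f', Fr2 β L e f' := by
  have hW : ∀ {f}, Fr β L e f → Fr β L e (L.W f) := fun h =>
    ⟨h.ls, h.e1, by simpa using h.f1, h.eR, h.ls.radG_W h.fR, h.Ae, by rw [h.ls.aw, h.Af]⟩
  have hf := h.ls.form
  rcases zmod2_cases (β e f) with h1 | h1 <;> rcases zmod2_cases (β e (L.W f)) with h2 | h2
  · refine absurd (hf.nd e fun y => ?_) h.e1
    obtain ⟨m, -, rfl⟩ := h.crd_surj y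
    let K : Subgroup X :=
      { carrier := {y | β e y = 0}
        one_mem' := hf.one_r e
        mul_mem' := fun {x y} hx hy => by
          show β e (x * y) = 0
          rw [hf.mul_r, show β e x = 0 from hx, show β e y = 0 from hy, add_zero]
        inv_mem' := fun {x} hx => by rwa [inv_eq_of_mul_eq_one_right (hf.sq x)] }
    refine prodSel_mem (K := K) (fun b hb => ?_) m
    rcases List.mem_append.1 hb with hb | hb
    · exact h.eR.2 b (h.radD_bas b hb).1
    · have o1 := h.ls.orth h.Ae h.Af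
      have o2 := h.ls.orth h.Ae (hW h).Af
      simp only [h.ls.bw] at o2
      simp only [LD.bas, List.mem_cons, List.not_mem_nil, or_false] at hb
      rcases hb with rfl | rfl | rfl | rfl | rfl | rfl
      exacts [h1, h2, o1.1, o2.1, o1.2, o2.2]
  · exact ⟨f, h, h1, h2⟩
  · exact ⟨_, hW h, h2, by rw [h.ls.WW, hf.mul_r, h1, h2, add_zero]⟩
  · exact ⟨_, hW (hW h), by rw [h.ls.WW, hf.mul_r, h1, h2]; rfl, by rw [h.ls.WWW, h1]⟩

namespace Fr2

variable {β : X → X → ZMod 2} {L : LD X} {e f : X} (h : Fr2 β L e f)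
include h

theorem gram_bas : ((L.bas e ++ L.bas f).map fun x => (L.bas e ++ L.bas f).map fun y => β x (L.W y)) =
    (idM 12).map fun m => (idM 12).map fun n => (gam m n : ZMod 2) := by
  have hf := h.ls.form
  have aWe : L.A (L.W e) = L.W e := by rw [h.ls.aw, h.Ae]
  have aWf : L.A (L.W f) = L.W f := by rw [h.ls.aw, h.Af]
  have o : ∀ x ∈ [e, L.W e, f, L.W f], ∀ y ∈ [e, L.W e, f, L.W f],
      β x (L.B y) = 0 ∧ β x (L.B (L.B y)) = 0 ∧ β (L.B y) x = 0 ∧ β (L.B (L.B y)) x = 0 := by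
    have a : ∀ x ∈ [e, L.W e, f, L.W f], L.A x = x := by simp [h.Ae, h.Af, aWe, aWf]
    intro x hx y hy
    have := h.ls.orth (a x hx) (a y hy)
    exact ⟨this.1, this.2, hf.symm _ _ ▸ this.1, hf.symm _ _ ▸ this.2⟩
  have e1 : β e (L.W e) = 0 := h.eR.2 _ (h.ls.radD_W h.eR).1
  have f1 : β f (L.W f) = 0 := h.fR.2 _ (h.ls.radG_W h.fR).1
  have e2 : β (L.W e) e = 0 := hf.symm _ _ ▸ e1
  have f2 : β (L.W f) f = 0 := hf.symm _ _ ▸ f1
  have g1 : β (L.W e) f = 1 := by
    rw [← h.ls.iW, ← h.ls.iW, h.ls.WWW, h.ls.WW, hf.mul_r, h.ef, h.eWf, zero_add]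
  have g2 : β f e = 0 := hf.symm _ _ ▸ h.ef
  have g3 : β (L.W f) e = 1 := hf.symm _ _ ▸ h.eWf
  have g4 : β f (L.W e) = 1 := hf.symm _ _ ▸ g1
  have iB : ∀ x y, β (L.B x) (L.B y) = β x y := h.ls.iB
  have iW : ∀ x y, β (L.W x) (L.W y) = β x y := h.ls.iW
  simp only [List.mem_cons, List.not_mem_nil, or_false, forall_eq_or_imp, forall_eq] at o
  have r : ((idM 12).map fun m => (idM 12).map fun n => (gam m n : ZMod 2)) =
      [[0, 0, 0, 0, 0, 0, 1, 1, 0, 0, 0, 0],
      [0, 0, 0, 0, 0, 0, 0, 1, 0, 0, 0, 0],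
      [0, 0, 0, 0, 0, 0, 0, 0, 1, 1, 0, 0],
      [0, 0, 0, 0, 0, 0, 0, 0, 0, 1, 0, 0],
      [0, 0, 0, 0, 0, 0, 0, 0, 0, 0, 1, 1],
      [0, 0, 0, 0, 0, 0, 0, 0, 0, 0, 0, 1],
      [1, 1, 0, 0, 0, 0, 0, 0, 0, 0, 0, 0],
      [0, 1, 0, 0, 0, 0, 0, 0, 0, 0, 0, 0],
      [0, 0, 1, 1, 0, 0, 0, 0, 0, 0, 0, 0],
      [0, 0, 0, 1, 0, 0, 0, 0, 0, 0, 0, 0],
      [0, 0, 0, 0, 1, 1, 0, 0, 0, 0, 0, 0],
      [0, 0, 0, 0, 0, 1, 0, 0, 0, 0, 0, 0]] := by
    decide +kernel
  rw [r]
  simp only [LD.bas, List.cons_append, List.nil_append, List.map_cons, List.map_nil, h.ls.WW,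
    ← h.ls.bw, map_mul, hf.mul_r, iB, iW, o, e1, f1, e2, f2, g1, g2, g3, g4, h.ef, h.eWf, hf.self,
    add_zero, zero_add]

theorem crd : Crd β L.W (L.crd e f) := by
  have hf := h.ls.form
  have hx : ∀ a < 2, ∀ b < 2, ((Nat.xor a b : ℕ) : ZMod 2) = a + b := by decide
  refine ⟨h.crd_xor, fun m => h.crd_inj, h.crd_surj, fun m hm n hn => ?_⟩
  refine mask_induction (k := 12) (P := fun m => β (L.crd e f m) (L.W (L.crd e f n)) = gam m n)
    ?_ (fun i hi => ?_) (fun a _ b _ h1 h2 => ?_) m hm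
  · rw [LD.crd, prodSel_zero, hf.one_l, gam_zero_left]; rfl
  · refine mask_induction (k := 12)
      (P := fun n => β (L.crd e f (2 ^ i)) (L.W (L.crd e f n)) = gam (2 ^ i) n)
      ?_ (fun j hj => ?_) (fun a _ b _ h1 h2 => ?_) n hn
    · rw [LD.crd, LD.crd, prodSel_zero, map_one, hf.one_r, gam_zero_right]; rfl
    · have := congrArg (fun l => (l[i]?.bind fun r => r[j]?)) h.gram_bas
      have l1 : (L.bas e ++ L.bas f).length = 12 := by simp [LD.bas]
      simp only [idM, List.getElem?_map, List.getElem?_range hi, List.getElem?_range hj,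
        List.getElem?_eq_getElem (l1 ▸ hi), List.getElem?_eq_getElem (l1 ▸ hj), Option.map_some,
        Option.bind_some, Option.some.injEq] at this
      rw [LD.crd, LD.crd, prodSel_two_pow, prodSel_two_pow, List.getD_eq_getElem _ _ (l1 ▸ hi),
        List.getD_eq_getElem _ _ (l1 ▸ hj), this]
    · rw [h.crd_xor, map_mul, hf.mul_r, h1, h2, gam_xor_right, hx _ (gam_lt _ _) _ (gam_lt _ _)]
  · rw [h.crd_xor, hf.mul_l, h1, h2, gam_xor_left, hx _ (gam_lt _ _) _ (gam_lt _ _)]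

end Fr2

end H50
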