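import Cfsg.Agent.H10.NqN1
import Cfsg.Agent.H13.NQS3a
import Cfsg.Agent.H15.NQX3
import Cfsg.Agent.H17.NQBar
import Cfsg.Agent.H18.NQLN
import Cfsg.Agent.H19.NQKE
import Cfsg.Agent.H2.NqST0
import Cfsg.Agent.H22.NqA7a
import Cfsg.Agent.H24.NQEqs
import Cfsg.Agent.H27.NqU3
import Cfsg.Agent.H31.NQA4a
import Cfsg.Agent.H33.NqBK2
import Cfsg.Agent.H36.NQBK1
import Cfsg.Agent.H37.NqB0
import Cfsg.Agent.H38.NqA4b
import Cfsg.Agent.H4.NqE5G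
import Cfsg.Agent.H41.NqES1
import Cfsg.Agent.H45.NQRBb
import Cfsg.Agent.H47.NQGen
import Cfsg.Agent.H49.NqNE
import Cfsg.Agent.H5.NQLU
import Cfsg.Agent.H50.NQCA
import Cfsg.Agent.H56.NQEL
import Cfsg.Agent.H59.NQCM2
import Cfsg.Agent.H6.NqES
import Cfsg.Agent.H60.NqBG
import Cfsg.Agent.H63.NqS3b
import Cfsg.Agent.H64.NqE5b
import Cfsg.Agent.H65.NqGZ
import Cfsg.Agent.H66.NQPUX
import Cfsg.Agent.H67.NqE5a
import Cfsg.Agent.H7.NqE4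
import Cfsg.Agent.H72.NqQ64
import Cfsg.Agent.H76.NQPS
import Cfsg.Agent.H79.NqBL1
import Cfsg.Agent.H8.NQB2
import Cfsg.Agent.H81.NQA7b
import Cfsg.Agent.H83.NQXB
import Cfsg.Agent.H84.NqA1
import Cfsg.Agent.H87.NqEP0
import Cfsg.Agent.H9.NQBL
import Cfsg.Agent.H91.NQAdj
import Cfsg.Agent.H92.NqB1a
import Cfsg.Agent.H94.NQBP
import Cfsg.Agent.H95.NqB1b

/-! # S3275, chapter NQ: the result -/

set_option autoImplicit false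

namespace H50.NQ

open Subgroup Cfsg H98 H48.DP H57.DPC H48.DP2

universe u

theorem bar : BAR.{u} := H17.NQBar.jobBAR

theorem ke1 : KE1.{u} := H19.NQKE.jobKE1

theorem ke2 : KE2.{u} := H19.NQKE.jobKE2

theorem q64 : Q64.{u} := H72.NqQ64.jobQ64

theorem x3 : X3.{u} := H15.NQX3.jobX3

theorem st : ST.{u} := st_of (H2.NqST0.jobST0 ke1) (H5.NQLU.jobLU ke1)

theorem gz : GZ.{u} := H65.NqGZ.jobGZ

theorem bl : BL.{u} := H9.NQBL.jobBL H36.NQB.jobBK1 H33.NqBK2.jobBK2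

theorem b2 : B2.{u} := H8.NQB2.jobB2 gz H27.NqU3.jobU3

theorem bl1 : BL1.{u} := H79.NqBL1.jobBL1 bl gz b2

theorem ep0 : EP0.{u} := H87.NqEP0.jobEP0 bar (H6.NqES.jobES H41.NqES1.jobES1)

theorem eq : EQ.{u} := eq_of ep0
  (H7.NqE4.jobE4 bl1 (H24.NQ.jobEQS ep0) (H10.NqN1.jobN1 gz))
  (H4.NqE5G.jobE5G bar H67.NqE5a.jobE5a (H64.NqE5b.jobE5b x3 ke1) bl)

theorem pux : PUX.{u} := H66.NQPUX.jobPUX H76.NQPS.jobPS

theorem ca : CA.{u} := jobCA eq ke1 ke2 (H84.NqA1.jobA1 eq st bl1 gz ke1) pux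
  (H47.NQGen.jobGEN eq st bl1 gz ke2)
  (H56.NQEL.jobEL eq bar ke1 (H31.NQA4a.jobA4a ke1) (H38.NqA.jobA4b ke1))
  (H18.NQ.jobLN bar (H22.NqA7a.jobA7a x3) H81.NQA7b.jobA7b)
  H83.NQ.jobXB H59.NQCM2.jobCM2 b2

theorem ne : NE.{u} := H49.NqNE.jobNE eq

theorem nq : NQ.{u} := nq_of ca (H37.NqB0.jobB0 ne st) (H92.NqB1a.jobB1a ne st)
  (H95.NqB1b.jobB1b bl) (H91.NQAdj.jobADJ ne st q64) H95.NqB1b.jobRBa
  (H45.NQR.jobRBb eq ke1 bl1 gz)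
  (H60.NqBG.jobBG bar (H94.NQ.jobBP H13.NQS3a.jobS3a H63.NqS3b.jobS3b))

theorem eqH (G : Type u) [Group G] [Finite G] (M Q H E : Subgroup G) (h : Uw M Q) (h1 : O2 H ≠ ⊥)
    (h2 : E ≤ H ⊓ M) (h3 : IsElementaryAbelian 3 E) (h4 : 9 ≤ Nat.card E) : H ≤ M := by
  obtain ⟨a, ha, b, hb, p⟩ := (ke1 G).2.1 E h3 h4
  have hn : H ≤ No (O2 H) := self_le_normalizer_pCoreOf H
  exact hn.trans (eq G M Q (O2 H) a b h (isPGroup_pCoreOf H) h1 ⟨(h2 ha).2, hn (h2 ha).1⟩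
    ⟨(h2 hb).2, hn (h2 hb).1⟩ p)

end H50.NQ
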