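/- A8S: the planes of `Q / Z` in `SL₄(2)`. -/
import Cfsg.Agent.H63.A8Def
import Cfsg.Agent.H67.SABasic

set_option autoImplicit false
set_option linter.unusedSectionVars false
set_option synthInstance.maxSize 2048

namespace H50.A8P

open H64.SG (O2 Cs Ns)
open H67.SA H63.A8 Matrix Subgroup

variable {F : Type} [Field F] [Finite F] [CharP F 2]

def qm (a b c d e : F) : SLn 3 F :=
  ⟨!![1, a, b, e; 0, 1, 0, c; 0, 0, 1, d; 0, 0, 0, 1], by
    rw [det_of_isUpperTriangular fun i j h => by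
      fin_cases i <;> fin_cases j <;> first | rfl | exact absurd h (by decide)]
    simp [Fin.prod_univ_four]⟩

theorem qm_val (a b c d e : F) :
    (qm a b c d e).1 = !![1, a, b, e; 0, 1, 0, c; 0, 0, 1, d; 0, 0, 0, 1] := rfl

theorem qm_mul (a b c d e a' b' c' d' e' : F) : qm a b c d e * qm a' b' c' d' e' =
    qm (a + a') (b + b') (c + c') (d + d') (e + e' + (a * c' + b * d')) := Subtype.ext (by
  rw [val_mul, qm_val, qm_val, qm_val]
  ext i j
  fin_cases i <;> fin_cases j <;> simp [mul_apply, Fin.sum_univ_four, add_comm, add_left_comm, add_assoc])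

theorem x12_val : (x 1 2 1 : SLn 3 F).1 = !![1, 0, 0, 0; 0, 1, 1, 0; 0, 0, 1, 0; 0, 0, 0, 1] := by
  ext i j
  rw [x_apply (by decide)]
  fin_cases i <;> fin_cases j <;> simp

theorem x21_val : (x 2 1 1 : SLn 3 F).1 = !![1, 0, 0, 0; 0, 1, 0, 0; 0, 1, 1, 0; 0, 0, 0, 1] := by
  ext i j
  rw [x_apply (by decide)]
  fin_cases i <;> fin_cases j <;> simp

theorem x12_qm (a b c d e : F) :
    x 1 2 1 * qm a b c d e * (x 1 2 1)⁻¹ = qm a (b + a) (c + d) d e := by
  refine mul_inv_eq_iff_eq_mul.2 (Subtype.ext ?_)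
  rw [val_mul, val_mul, qm_val, qm_val, x12_val]
  ext i j
  fin_cases i <;> fin_cases j <;>
    simp [mul_apply, Fin.sum_univ_four, add_comm, CharTwo.add_cancel_left]

theorem x21_qm (a b c d e : F) :
    x 2 1 1 * qm a b c d e * (x 2 1 1)⁻¹ = qm (a + b) b c (d + c) e := by
  refine mul_inv_eq_iff_eq_mul.2 (Subtype.ext ?_)
  rw [val_mul, val_mul, qm_val, qm_val, x21_val, add_comm a b]
  ext i j
  fin_cases i <;> fin_cases j <;>
    simp [mul_apply, Fin.sum_univ_four, add_comm d c, add_comm a b, add_comm (b + a) b,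
      CharTwo.add_cancel_left]

def bf (F : Type) [Field F] (b : Bool) : F := bif b then 1 else 0

theorem bf_xor (a b : Bool) : bf F (a ^^ b) = bf F a + bf F b := by
  cases a <;> cases b <;> simp [bf, CharTwo.add_self_eq_zero]

theorem bf_and (a b : Bool) : bf F (a && b) = bf F a * bf F b := by
  cases a <;> cases b <;> simp [bf]

theorem bf_inj {a b : Bool} (h : bf F a = bf F b) : a = b := by
  cases a <;> cases b <;> simp_all [bf]

abbrev V := Fin 32

def t (v : V) (k : ℕ) : Bool := v.val.testBit k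

def mk (a b c d e : Bool) : V :=
  ⟨a.toNat + 2 * b.toNat + 4 * c.toNat + 8 * d.toNat + 16 * e.toNat, by revert a b c d e; decide⟩

theorem t_mk : ∀ a b c d e, t (mk a b c d e) 0 = a ∧ t (mk a b c d e) 1 = b ∧
    t (mk a b c d e) 2 = c ∧ t (mk a b c d e) 3 = d ∧ t (mk a b c d e) 4 = e := by decide

theorem mk_t : ∀ v : V, mk (t v 0) (t v 1) (t v 2) (t v 3) (t v 4) = v := by decide

variable (F) in
/-- the elements of `Q`. -/
def q (v : V) : SLn 3 F := qm (bf F (t v 0)) (bf F (t v 1)) (bf F (t v 2)) (bf F (t v 3)) (bf F (t v 4))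

theorem q_mk (a b c d e : Bool) :
    q F (mk a b c d e) = qm (bf F a) (bf F b) (bf F c) (bf F d) (bf F e) := by
  obtain ⟨h0, h1, h2, h3, h4⟩ := t_mk a b c d e
  rw [q, h0, h1, h2, h3, h4]

def m (v w : V) : V := mk (t v 0 ^^ t w 0) (t v 1 ^^ t w 1) (t v 2 ^^ t w 2) (t v 3 ^^ t w 3)
  ((t v 4 ^^ t w 4) ^^ ((t v 0 && t w 2) ^^ (t v 1 && t w 3)))
def c12 (v : V) : V := mk (t v 0) (t v 1 ^^ t v 0) (t v 2 ^^ t v 3) (t v 3) (t v 4)
def c21 (v : V) : V := mk (t v 0 ^^ t v 1) (t v 1) (t v 2) (t v 3 ^^ t v 2) (t v 4)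

theorem q_mul (v w : V) : q F v * q F w = q F (m v w) := by
  simp only [m, q_mk, bf_xor, bf_and]; exact qm_mul ..

theorem q12 (v : V) : x 1 2 1 * q F v * (x 1 2 1)⁻¹ = q F (c12 v) := by
  simp only [c12, q_mk, bf_xor]; exact x12_qm ..

theorem q21 (v : V) : x 2 1 1 * q F v * (x 2 1 1)⁻¹ = q F (c21 v) := by
  simp only [c21, q_mk, bf_xor]; exact x21_qm ..

theorem q_inj {v w : V} (h : q F v = q F w) : v = w := by
  have k := fun i j => congrFun (congrFun (congrArg Subtype.val h) i) j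
  rw [← mk_t v, ← mk_t w, bf_inj (F := F) (k 0 1), bf_inj (F := F) (k 0 2), bf_inj (F := F) (k 1 3),
    bf_inj (F := F) (k 2 3), bf_inj (F := F) (k 0 3)]

theorem q_zero : q F 0 = 1 := by
  ext i j
  fin_cases i <;> fin_cases j <;> rfl

theorem q_inv (v : V) : (q F v)⁻¹ = q F (m v (m v v)) :=
  inv_eq_of_mul_eq_one_right (by
    rw [q_mul, (by decide : ∀ v, m v (m v (m v v)) = 0) v, q_zero])

def cd (i j : Fin 4) : V := if i = 0 then (if j = 1 then 1 else if j = 2 then 2 else 16)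
  else if i = 1 then 4 else 8

theorem x_q {i j : Fin 4} (h : i ≠ j) (h' : i = 0 ∨ j = 3) : x i j (1 : F) = q F (cd i j) := by
  ext a b
  rw [x_apply h]
  fin_cases i <;> fin_cases j <;> simp at h h' <;> fin_cases a <;> fin_cases b <;>
    simp [q, qm, cd, t, bf, Nat.testBit]

/-- the six singular planes, `Z` and `Q`. -/
def pl (k : Fin 8) (v : V) : Bool :=
  (![983055, 286331153, 2185331265, 5570645, 50529027, 2416545801, 65537, 4294967295] k : ℕ).testBit v

variable (F) in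
def sb (k : Fin 8) : Subgroup (SLn 3 F) where
  carrier := {g | ∃ v, pl k v = true ∧ q F v = g}
  one_mem' := ⟨0, by revert k; decide, q_zero⟩
  mul_mem' := by
    rintro _ _ ⟨v, hv, rfl⟩ ⟨w, hw, rfl⟩
    exact ⟨m v w, by revert k v w; decide +kernel, (q_mul v w).symm⟩
  inv_mem' := by
    rintro _ ⟨v, hv, rfl⟩
    exact ⟨_, by revert k v; decide +kernel, (q_inv v).symm⟩

theorem q_mem {k : Fin 8} {v : V} : q F v ∈ sb F k ↔ pl k v = true :=
  ⟨fun ⟨_, h, e⟩ => q_inj e ▸ h, fun h => ⟨v, h, rfl⟩⟩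

theorem sb_le {k : Fin 8} {H : Subgroup (SLn 3 F)} (h : ∀ v, pl k v = true → q F v ∈ H) :
    sb F k ≤ H := by
  rintro _ ⟨v, hv, rfl⟩
  exact h v hv

theorem card_sb (k : Fin 8) : Nat.card (sb F k) = (Finset.univ.filter fun v => pl k v = true).card := by
  rw [← Fintype.card_subtype, ← Nat.card_eq_fintype_card]
  exact (Nat.card_eq_of_bijective (fun v : {v // pl k v = true} => (⟨q F v, q_mem.2 v.2⟩ : sb F k))
    ⟨fun _ _ h => Subtype.ext (q_inj (congrArg Subtype.val h)),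
      fun ⟨_, v, hv, e⟩ => ⟨⟨v, hv⟩, Subtype.ext e⟩⟩).symm

theorem card8 {k : Fin 8} (hk : k < 6) : Nat.card (sb F k) = 8 := by
  rw [card_sb]; revert k; decide +kernel

theorem pat_eq (hp : Par8 3 F) {S : Fin 4 → Fin 4 → Prop} (hS : Uni S) {k : Fin 8}
    (h1 : ∀ i j, i ≠ j → S i j → (i = 0 ∨ j = 3) ∧ pl k (cd i j) = true)
    (h2 : ∀ v, pl k v = true → (S 0 1 ∨ t v 0 = false) ∧ (S 0 2 ∨ t v 1 = false) ∧
      (S 1 3 ∨ t v 2 = false) ∧ (S 2 3 ∨ t v 3 = false) ∧ S 0 3) : Pat 3 F S = sb F k := by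
  refine le_antisymm (Pat_le.2 fun i j h hs c => ?_) (sb_le fun v hv => (mem_Pat hS).2 ⟨fun i => ?_,
    fun i j h hs => ?_⟩)
  · rcases hp.fld c with rfl | rfl
    · rw [x_zero]; exact one_mem _
    · rw [x_q h (h1 i j h hs).1]; exact q_mem.2 (h1 i j h hs).2
  · fin_cases i <;> rfl
  · obtain ⟨a, b, c, d, e⟩ := h2 v hv
    fin_cases i <;> fin_cases j <;> first
      | rfl | exact absurd rfl h | exact absurd e hs
      | exact congrArg (bf F) (a.resolve_left hs) | exact congrArg (bf F) (b.resolve_left hs)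
      | exact congrArg (bf F) (c.resolve_left hs) | exact congrArg (bf F) (d.resolve_left hs)

theorem er (hp : Par8 3 F) : Er 3 F = sb F 0 := pat_eq hp (uni_Row 0) (by decide) (by decide)
theorem ec (hp : Par8 3 F) : Ec 3 F = sb F 1 := pat_eq hp (uni_Col _) (by decide) (by decide)
theorem zz (hp : Par8 3 F) : ZZ 3 F = sb F 6 := pat_eq hp (uni_XX ..) (by decide) (by decide)
theorem qq (hp : Par8 3 F) : QQ 3 F = sb F 7 :=
  QQ_eq.trans (pat_eq hp uni_QQ (by decide) (by decide))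

theorem e3 : E3 3 F = sb F 2 := by
  have a : x 0 (la 3) (1 : F) = q F 16 := x_q (by decide) (by decide)
  have b : x 0 1 (1 : F) * x 2 (la 3) 1 = q F 9 := by
    rw [x_q (by decide) (by decide), x_q (by decide) (by decide), q_mul]; rfl
  have c : x 0 2 (1 : F) * x 1 (la 3) 1 = q F 6 := by
    rw [x_q (by decide) (by decide), x_q (by decide) (by decide), q_mul]; rfl
  rw [E3, a, b, c]
  refine le_antisymm ((closure_le _).2 ?_) (sb_le fun v hv => ?_)
  · rintro _ (rfl | rfl | rfl) <;> exact q_mem.2 (by decide)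
  · have g : ∀ w : V, w = 0 ∨ w = 16 ∨ w = 9 ∨ w = 6 → q F w ∈ closure {q F 16, q F 9, q F 6} := by
      rintro _ (rfl | rfl | rfl | rfl)
      exacts [q_zero (F := F) ▸ one_mem _, subset_closure (by simp), subset_closure (by simp),
        subset_closure (by simp)]
    obtain ⟨a, ha, b, hb, c, hc, rfl⟩ := (by decide +kernel : ∀ v, pl 2 v = true →
      ∃ a, (a = 0 ∨ a = 16 ∨ a = 9 ∨ a = 6) ∧ ∃ b, (b = 0 ∨ b = 16 ∨ b = 9 ∨ b = 6) ∧
      ∃ c, (c = 0 ∨ c = 16 ∨ c = 9 ∨ c = 6) ∧ m (m a b) c = v) v hv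
    rw [← q_mul, ← q_mul]
    exact mul_mem (mul_mem (g a ha) (g b hb)) (g c hc)

theorem key : ∀ u v : V, m u u = 0 → m v v = 0 → m u v = m v u → pl 6 u = false → pl 6 v = false →
    pl 6 (m u v) = false → ∃ k : Fin 8, k < 6 ∧ ∀ w, m u w = m w u → m v w = m w v → pl k w = true := by
  decide +kernel

/-- an elementary abelian subgroup of `Q` of order at least `8` is one of the six planes. -/
theorem cls {E : Subgroup (SLn 3 F)} (hE : E ≤ sb F 7) (h2 : ∀ u ∈ E, u * u = 1)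
    (h8 : 8 ≤ Nat.card E) : ∃ k : Fin 8, k < 6 ∧ E = sb F k := by
  classical
  have sq : ∀ v, q F v ∈ E → m v v = 0 := fun v hv => q_inj (F := F) (by rw [← q_mul, h2 _ hv, q_zero])
  have cm : ∀ v w, q F v ∈ E → q F w ∈ E → m v w = m w v := fun v w hv hw => q_inj (F := F) (by
    rw [← q_mul, ← q_mul, ← inv_eq_of_mul_eq_one_right (h2 _ (mul_mem hv hw)), _root_.mul_inv_rev,
      inv_eq_of_mul_eq_one_right (h2 _ hv), inv_eq_of_mul_eq_one_right (h2 _ hw)])
  have out : ∀ p : V → Bool, (Finset.univ.filter fun v => p v = true).card < 8 →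
      ∃ v, q F v ∈ E ∧ p v = false := fun p hp => by
    by_contra hc
    have : (E : Set (SLn 3 F)) ⊆ ((Finset.univ.filter fun v => p v = true).image (q F) : Finset _) :=
      fun g hg => by
        obtain ⟨v, -, rfl⟩ := hE hg
        exact Finset.mem_coe.2 (Finset.mem_image_of_mem _ (Finset.mem_filter.2 ⟨Finset.mem_univ _,
          by_contra fun k => hc ⟨v, hg, by simpa using k⟩⟩))
    have k := Set.ncard_le_ncard this (Finset.finite_toSet _)
    rw [Set.ncard_coe_finset] at k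
    have := k.trans Finset.card_image_le
    rw [← Nat.card_coe_set_eq] at this
    exact absurd (h8.trans this) (not_le.2 hp)
  obtain ⟨u, hu, pu⟩ := out (pl 6) (by decide +kernel)
  obtain ⟨v, hv, pv⟩ := out (fun v => pl 6 v || pl 6 (m u v)) (by clear hu pu; revert u; decide +kernel)
  rw [Bool.or_eq_false_iff] at pv
  obtain ⟨k, hk, h⟩ := key u v (sq u hu) (sq v hv) (cm u v hu hv) pu pv.1 pv.2
  refine ⟨k, hk, eq_of_le_of_card_ge (fun g hg => ?_) (by rw [card8 hk]; exact h8)⟩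
  obtain ⟨w, -, rfl⟩ := hE hg
  exact q_mem.2 (h w (cm u w hu hg) (cm v w hv hg))

theorem nrm {k : Fin 8} {g : SLn 3 F} {f : V → V} (h : ∀ v, g * q F v * g⁻¹ = q F (f v)) :
    g ∈ Ns (sb F k) ↔ ∀ v, pl k v = true → pl k (f v) = true :=
  ⟨fun hg v hv => q_mem.1 (h v ▸ (mem_normalizer_iff.1 hg _).1 (q_mem.2 hv)),
    fun hf => mem_normalizer_fintype (by
      rintro _ ⟨v, hv, rfl⟩
      exact ⟨f v, hf v hv, (h v).symm⟩)⟩

theorem inf_le {k l : Fin 8} :
    sb F k ⊓ sb F l ≤ sb F 6 ↔ ∀ v, pl k v = true → pl l v = true → pl 6 v = true :=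
  ⟨fun h _ a b => q_mem.1 (h ⟨q_mem.2 a, q_mem.2 b⟩), fun h => by
    rintro _ ⟨⟨v, hv, rfl⟩, a⟩
    exact q_mem.2 (h v hv (q_mem.1 a))⟩

theorem rho_mem : (x 1 2 1 * x 2 1 1 : SLn 3 F) ∈ O2 (Cs (ZZ 3 F)) := by
  refine subset_closure ⟨mul_mem ?_ ?_, Odd.of_dvd_nat (by decide : Odd 3)
    (orderOf_dvd_of_pow_eq_one (Subtype.ext ?_))⟩
  · exact Pat_le_Cs (S := fun i j => i = 1 ∧ j = 2) (by decide) (x_mem_Pat ⟨rfl, rfl⟩ 1)
  · exact Pat_le_Cs (S := fun i j => i = 2 ∧ j = 1) (by decide) (x_mem_Pat ⟨rfl, rfl⟩ 1)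
  · rw [pow_three]
    simp only [val_mul, x12_val, x21_val, val_one]
    ext i j
    fin_cases i <;> fin_cases j <;>
      simp [mul_apply, Fin.sum_univ_four, CharTwo.add_self_eq_zero]

theorem root_minor {u : SLn 3 F} (h : Root u) (a b c d : Fin 4) :
    (u.1 - 1) a b * (u.1 - 1) c d = (u.1 - 1) a d * (u.1 - 1) c b := by
  obtain ⟨g, r, -, rfl⟩ := h
  have : ∀ a b, ((g * x 0 (la 3) r * g⁻¹).1 - 1) a b = g.1 a 0 * r * (g⁻¹).1 (la 3) b := fun a b => by
    rw [val_mul, val_mul, x_coe (by decide), mul_add, add_mul, mul_one, val_mul_inv, add_sub_cancel_left]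
    simp [mul_apply, Fin.sum_univ_four, single_apply]
  simp only [this]
  ring

theorem jobFP : J8FP := by
  intro n F _ _ _ hp
  obtain rfl := hp.three
  have h12 : x 1 2 (1 : F) ∈ UU 3 F := x_mem_UU (by decide) 1
  refine ⟨?_, ?_, ?_, ?_, ?_, ?_, ?_, ?_, ?_, ?_, ?_⟩ <;> simp only [e3, er hp, ec hp, qq hp]
  · exact sb_le fun v _ => q_mem.2 (by revert v; decide)
  · rintro _ ⟨v, hv, rfl⟩
    rw [q_mul, (by decide : ∀ v, pl 2 v = true → m v v = 0) v hv, q_zero]
  · exact card8 (by decide)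
  · exact zz hp ▸ inf_le.2 (by decide)
  · exact zz hp ▸ inf_le.2 (by decide)
  · exact zz hp ▸ sb_le fun v hv => q_mem.2 (by revert v; decide)
  · refine Pat_le.2 fun i j h hs c => ?_
    rcases hp.fld c with rfl | rfl
    · rw [x_zero]; exact one_mem _
    rcases (by decide : ∀ i j : Fin 4, i < j → (i = 0 ∨ j = 3) ∨ (i = 1 ∧ j = 2)) i j hs with
      k | ⟨rfl, rfl⟩
    · rw [x_q h k]
      refine (nrm fun v => by rw [q_inv, q_mul, q_mul]).2 ?_
      generalize cd i j = w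
      revert w
      decide +kernel
    · exact (nrm q12).2 (by decide)
  · rintro _ ⟨v, hv, rfl⟩ hr
    have a : bf F (t v 0) * bf F (t v 3) = bf F false := by
      simpa [q, qm_val, bf] using root_minor hr 0 1 2 3
    have b : bf F (t v 1) * bf F (t v 2) = bf F false := by
      simpa [q, qm_val, bf] using root_minor hr 0 2 1 3
    rw [← bf_and] at a b
    rw [zz hp]
    exact q_mem.2 ((by decide : ∀ v, pl 2 v = true → (t v 0 && t v 3) = false →
      (t v 1 && t v 2) = false → pl 6 v = true) v hv (bf_inj a) (bf_inj b))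
  · intro E hE h2 h8 hn
    obtain ⟨k, hk, rfl⟩ := cls hE h2 h8
    have := (nrm (f := fun v => c12 (c21 v)) fun v => by rw [← q12, ← q21]; group).1 (hn rho_mem)
    rcases (by decide +kernel : ∀ k : Fin 8, k < 6 →
      (∀ v, pl k v = true → pl k (c12 (c21 v)) = true) → k = 0 ∨ k = 1 ∨ k = 2) k hk this with
      rfl | rfl | rfl <;> simp
  · intro E hE h2 h8 a b
    obtain ⟨k, hk, rfl⟩ := cls hE h2 h8
    rw [zz hp, inf_le] at a b
    rw [(by decide +kernel : ∀ k : Fin 8, k < 6 → (∀ v, pl k v = true → pl 0 v = true → pl 6 v = true) →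
      (∀ v, pl k v = true → pl 1 v = true → pl 6 v = true) → k = 2) k hk a b]
  · intro E hE E' hE' h2 h2' h8 h8' a b c
    obtain ⟨k, hk, rfl⟩ := cls hE h2 h8
    obtain ⟨l, hl, rfl⟩ := cls hE' h2' h8'
    rw [zz hp, inf_le] at c
    rcases (by decide +kernel : ∀ k : Fin 8, k < 6 → ∀ l : Fin 8, l < 6 →
      (∀ v, pl k v = true → pl k (c12 v) = true) → (∀ v, pl l v = true → pl l (c12 v) = true) →
      (∀ v, pl k v = true → pl l v = true → pl 6 v = true) → k = 0 ∨ k = 1 ∨ l = 0 ∨ l = 1) k hk l hl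
      ((nrm q12).1 (a h12)) ((nrm q12).1 (b h12)) c with rfl | rfl | rfl | rfl <;> simp

end H50.A8P
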