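/- Bender-Glauberman 10.1 - 10.8 with all hypotheses discharged. -/
import Cfsg.Agent.H50.Rows10
import Cfsg.Agent.H46.Sec10a
import Cfsg.Agent.H51.Sec10b
import Cfsg.Agent.H51.Final9
import Cfsg.Agent.H47.Final3
import Cfsg.Agent.H48.Final4b
import Cfsg.Agent.H52.Sec5d
import Cfsg.Agent.H52.Sec6c

namespace H50
universe u

theorem closed10_1 : T10_1.{u} := inferInstance
theorem closed10_2 : T10_2.{u} := inferInstance
theorem closed10_3 : T10_3.{u} := inferInstance
theorem closed10_4 : T10_4.{u} := inferInstance
theorem closed10_5 : T10_5.{u} := inferInstance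
theorem closed10_6 : T10_6.{u} := inferInstance
theorem closed10_7 : T10_7.{u} := inferInstance
theorem closed10_8 : T10_8.{u} := inferInstance

end H50
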